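import Groth.Agent.BlowPerf.Chart
import Groth.Agent.BlowUp.Existence
import Groth.Agent.BlowUp.Local
import Groth.Agent.FlatMor.PC.Instances
import Groth.Agent.IdealSh.Extend
import Groth.Agent.KReg44.Local
import Groth.Agent.KReg44.Weakly
import Groth.Prelude.Def_Mor2

/-!
# Blow-ups in locally Koszul-regular centres are perfect morphisms
-/

set_option autoImplicit false
set_option linter.style.haveILetI false
set_option backward.isDefEq.respectTransparency.types false
set_option maxHeartbeats 1600000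

open CategoryTheory Limits AlgebraicGeometry
open Groth.Agent.BlowUp

universe u

namespace Groth.Agent.BlowPerf.Global

open Groth.Agent.FlatMor.PC

theorem perfect_of_isOpenImmersion {X Y : Scheme.{u}} (g : X ⟶ Y) [IsOpenImmersion g] :
    MoreMor.IsPerfectMor g := by
  intro U V hU hV hUV
  letI := (g.appLE V U hUV).hom.toAlgebra
  haveI : Module.Flat Γ(Y, V) Γ(X, U) := HasRingHomProperty.appLE @Flat g inferInstance ⟨V, hV⟩ ⟨U, hU⟩ hUV
  haveI : Algebra.FinitePresentation Γ(Y, V) Γ(X, U) := g.finitePresentation_appLE hV hU hUV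
  exact perfectHom_of_flat_fp

theorem perfect_toBase {A : Type u} [CommRing A] (I : Ideal A) (a : A)
    (h : MoreMor.IsPerfectHom A (AffineChart.Chart I a)) : MoreMor.IsPerfectMor (AffineChart.toBase I a) := by
  have := localHom_perfect.{u}.hasRingHomProperty
  exact (perfectMor_eq _).2 ((HasRingHomProperty.Spec_iff
    (P := Mor (fun A B _ _ _ => MoreMor.IsPerfectHom A B))).2
      ((toRH_iff (fun A B _ _ _ => MoreMor.IsPerfectHom A B)).2 h))

/-- An ideal sheaf on `Spec A` is the centre of its ideal of sections. -/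
theorem eq_centre {A : Type u} [CommRing A] (𝓙 : (Spec (CommRingCat.of A)).IdealSheafData) :
    𝓙 = Existence.centre ((𝓙.ideal ⟨⊤, isAffineOpen_top _⟩).comap (Scheme.ΓSpecIso (CommRingCat.of A)).inv.hom) := by
  have h := (Scheme.IdealSheafData.equivOfIsAffine (X := Spec (CommRingCat.of A))).left_inv 𝓙
  refine h.symm.trans (congrArg Scheme.IdealSheafData.ofIdealTop ?_)
  exact (Ideal.map_comap_of_surjective (Scheme.ΓSpecIso (CommRingCat.of A)).inv.hom
    (ConcreteCategory.bijective_of_isIso (Scheme.ΓSpecIso (CommRingCat.of A)).inv).2 _).symm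

/-- Koszul-regular generators are transported along ring isomorphisms. -/
theorem exists_list_of_bijective {R S : Type u} [CommRing R] [CommRing S] (φ : R →+* S) (hφ : Function.Bijective φ)
    {I : Ideal S} (h : ∃ l : List S, LCI.IsKoszulRegularSeq S l ∧ I = Ideal.ofList l) :
    ∃ l : List R, LCI.IsKoszulRegularSeq R l ∧ I.comap φ = Ideal.ofList l := by
  obtain ⟨l, hl, rfl⟩ := h
  let e := RingEquiv.ofBijective φ hφ
  refine ⟨l.map e.symm.toRingHom,
    KReg44.isKoszulRegularSeq_map _ (RingHom.Flat.of_bijective e.symm.bijective) hl, ?_⟩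
  rw [← Ideal.map_ofList]
  exact (Ideal.map_symm e).symm

/-- On an affine chart the centre is given by a Koszul-regular ideal. -/
theorem exists_centre {X : Scheme.{u}} (𝓘 : X.IdealSheafData) {U : X.Opens} (hU : IsAffineOpen U)
    {rs : List Γ(X, U)} (hrs : LCI.IsKoszulRegularSeq Γ(X, U) rs) (hI : 𝓘.ideal ⟨U, hU⟩ = Ideal.ofList rs)
    {A : Type u} [CommRing A] (j : Spec (CommRingCat.of A) ⟶ X) [IsOpenImmersion j] (hj : j.opensRange = U) :
    ∃ (I : Ideal A) (l : List A), LCI.IsKoszulRegularSeq A l ∧ I = Ideal.ofList l ∧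
      𝓘.comap j = Existence.centre I := by
  refine ⟨((𝓘.comap j).ideal ⟨⊤, isAffineOpen_top _⟩).comap (Scheme.ΓSpecIso (CommRingCat.of A)).inv.hom, ?_⟩
  have hW : ∀ (W : X.affineOpens), W.1 = U → ∃ l : List Γ(X, W.1), LCI.IsKoszulRegularSeq Γ(X, W.1) l ∧
      𝓘.ideal W = Ideal.ofList l := by
    intro W hWU
    obtain rfl : W = ⟨U, hU⟩ := Subtype.ext hWU
    exact ⟨rs, hrs, hI⟩
  have hT := hW ⟨j ''ᵁ ⊤, (isAffineOpen_top _).image_of_isOpenImmersion j⟩
    ((Scheme.Hom.image_top_eq_opensRange j).trans hj)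
  have hB := exists_list_of_bijective (j.appIso ⊤).inv.hom (ConcreteCategory.bijective_of_isIso _) hT
  rw [← Scheme.IdealSheafData.ideal_comap_of_isOpenImmersion 𝓘 j ⟨⊤, isAffineOpen_top _⟩] at hB
  obtain ⟨l, hl, he⟩ := exists_list_of_bijective (Scheme.ΓSpecIso (CommRingCat.of A)).inv.hom
    (ConcreteCategory.bijective_of_isIso _) hB
  exact ⟨l, hl, he, eq_centre _⟩

/-- A point of `Proj` of the Rees algebra lies in the chart of some generator. -/
theorem exists_chart {A : Type u} [CommRing A] {I : Ideal A} (l : List A) (hI : I = Ideal.ofList l)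
    (z : ↑(Proj (Rees.deg (reesAlgebra I)))) :
    ∃ (a : A) (_ : a ∈ l) (ha : a ∈ I), z ∈ (ProjRees.chart I ha).opensRange := by
  by_contra hne
  push Not at hne
  have hall : ∀ a : A, ∀ ha : a ∈ I, z ∉ (ProjRees.chart I ha).opensRange := by
    intro a ha
    rw [ProjRees.opensRange_chart]
    intro hz
    refine hz ?_
    clear hz
    have ha' : a ∈ Ideal.ofList l := hI ▸ ha
    suffices ∀ b ∈ Ideal.ofList l, ∀ hb : b ∈ I, ProjRees.gen I hb ∈ z.asHomogeneousIdeal from this a ha' ha
    intro b hb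
    induction hb using Submodule.span_induction with
    | mem c hc =>
      intro hc'
      have := hne c hc hc'
      rw [ProjRees.opensRange_chart] at this
      exact not_not.1 this
    | zero =>
      intro h0
      have e : ProjRees.gen I h0 = 0 := Subtype.ext (Polynomial.monomial 1).map_zero
      rw [e]
      exact zero_mem z.asHomogeneousIdeal.toIdeal
    | add c d hc hd ihc ihd =>
      intro h
      have e : ProjRees.gen I h = ProjRees.gen I (hI ▸ hc : c ∈ I) + ProjRees.gen I (hI ▸ hd : d ∈ I) :=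
        Subtype.ext ((Polynomial.monomial 1).map_add c d)
      rw [e]
      exact z.asHomogeneousIdeal.toIdeal.add_mem (ihc _) (ihd _)
    | smul r c hc ihc =>
      intro h
      have e : ProjRees.gen I h = algebraMap A (reesAlgebra I) r * ProjRees.gen I (hI ▸ hc : c ∈ I) :=
        Subtype.ext (Polynomial.C_mul_monomial (a := r) (b := c) (n := 1)).symm
      rw [e]
      exact z.asHomogeneousIdeal.toIdeal.mul_mem_left _ (ihc _)
  obtain ⟨⟨a, ha⟩, hz⟩ := TopologicalSpace.Opens.mem_iSup.mp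
    ((ProjRees.iSup_opensRange_chart I).ge (trivial : z ∈ (⊤ : (Proj (Rees.deg (reesAlgebra I))).Opens)))
  exact hall a ha hz

/-- A blow-up in a locally Koszul-regular centre is covered by standard charts. -/
theorem exists_chart_at {X X' : Scheme.{u}} {f : X' ⟶ X} {𝓘 : X.IdealSheafData} (hf : _root_.BlowUp.IsBlowUp f 𝓘)
    (h : ∀ x : X, ∃ (U : X.Opens) (hU : IsAffineOpen U) (rs : List Γ(X, U)), x ∈ U ∧
      LCI.IsKoszulRegularSeq Γ(X, U) rs ∧ 𝓘.ideal ⟨U, hU⟩ = Ideal.ofList rs) (x' : X') :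
    ∃ (A : Type u) (_ : CommRing A) (j : Spec (CommRingCat.of A) ⟶ X) (_ : IsOpenImmersion j) (I : Ideal A)
      (n : ℕ) (a : A) (b : Fin n → A) (q : Spec (CommRingCat.of (AffineChart.Chart I a)) ⟶ X') (_ : IsOpenImmersion q),
      LCI.IsKoszulRegularSeq A (a :: List.ofFn b) ∧ I = Ideal.ofList (a :: List.ofFn b) ∧
      𝓘.comap j = Existence.centre I ∧ x' ∈ Set.range q ∧ q ≫ f = AffineChart.toBase I a ≫ j := by
  obtain ⟨U, hU, rs, hxU, hrs, hI⟩ := h (f x')
  haveI := hU.isOpenImmersion_fromSpec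
  obtain ⟨I, l, hl, hIl, hc⟩ := exists_centre 𝓘 hU hrs hI (A := Γ(X, U)) hU.fromSpec hU.opensRange_fromSpec
  have hb : _root_.BlowUp.IsBlowUp (pullback.fst hU.fromSpec f) (Existence.centre I) := hc ▸
    Basic.flat_baseChange hU.fromSpec hf
  obtain ⟨e, he⟩ := Basic.exists_iso hb (Existence.isBlowUp_proj I)
  obtain ⟨y, hy⟩ : f x' ∈ Set.range hU.fromSpec := hU.range_fromSpec.symm ▸ hxU
  obtain ⟨p, -, hp⟩ := Scheme.Pullback.exists_preimage_pullback (f := hU.fromSpec) (g := f) y x' hy
  obtain ⟨a, hal, ha, hz⟩ := exists_chart l hIl (e.inv p)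
  obtain ⟨pre, post, rfl⟩ := List.append_of_mem hal
  refine ⟨Γ(X, U), inferInstance, hU.fromSpec, inferInstance, I, (pre ++ post).length, a,
    fun i => (pre ++ post).get i, ProjRees.chart I ha ≫ e.hom ≫ pullback.snd hU.fromSpec f, inferInstance,
    ?_, ?_, hc, ?_, ?_⟩
  · rw [List.ofFn_get]
    exact KReg44.isKoszulRegularSeq_perm List.perm_middle hl
  · rw [List.ofFn_get]
    exact hIl.trans (KReg44.ofList_perm List.perm_middle)
  · obtain ⟨w, hw⟩ := hz
    refine ⟨w, ?_⟩
    rw [Scheme.Hom.comp_apply, Scheme.Hom.comp_apply]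
    change pullback.snd hU.fromSpec f (e.hom (ProjRees.chart I ha w)) = x'
    rw [show ProjRees.chart I ha w = e.inv p from hw,
      show e.hom (e.inv p) = p from congr($(e.inv_hom_id) p)]
    exact hp
  · rw [← ProjRees.chart_over I ha, ← he, Category.assoc, Category.assoc, ← pullback.condition]
    simp [Category.assoc]

/-- An affine cover adapted to a regular closed immersion. -/
theorem exists_affine_of_isRegular {Y X : Scheme.{u}} {i : Y ⟶ X} (hi : Mor2.IsRegularClosedImmersion i) (x : X) :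
    ∃ (U : X.Opens) (hU : IsAffineOpen U) (rs : List Γ(X, U)), x ∈ U ∧
      LCI.IsKoszulRegularSeq Γ(X, U) rs ∧ i.ker.ideal ⟨U, hU⟩ = Ideal.ofList rs := by
  haveI : IsClosedImmersion i := hi.1
  by_cases hx : x ∈ Set.range i
  · obtain ⟨z, rfl⟩ := hx
    obtain ⟨U, hU, hz, rs, hreg, hI⟩ := hi.2 z
    exact ⟨U, hU, rs, hz, KReg44.isKoszulRegularSeq_of_isWeaklyRegular rs.length rs rfl hreg.toIsWeaklyRegular, hI⟩
  · obtain ⟨U, hU, hxU, hsub⟩ := exists_isAffineOpen_mem_and_subset (x := x)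
      (U := ⟨(Set.range i)ᶜ, i.isClosedEmbedding.isClosed_range.isOpen_compl⟩) hx
    refine ⟨U, hU, [1], hxU, KReg44.isKoszulRegularSeq_of_eq_top (by simp), ?_⟩
    rw [IdealSh.Extend.ideal_eq_top_of_disjoint (U := U) ?_ ⟨U, hU⟩ le_rfl]
    · simp
    · rw [Scheme.Hom.support_ker, i.isClosedEmbedding.isClosed_range.closure_eq]
      exact Set.disjoint_left.2 fun y hy hyU => hsub hyU hy

/-- A blow-up in a locally Koszul-regular centre is perfect. -/
theorem isPerfectMor {X X' : Scheme.{u}} (f : X' ⟶ X) (𝓘 : X.IdealSheafData) (hf : _root_.BlowUp.IsBlowUp f 𝓘)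
    (h : ∀ x : X, ∃ (U : X.Opens) (hU : IsAffineOpen U) (rs : List Γ(X, U)), x ∈ U ∧
      LCI.IsKoszulRegularSeq Γ(X, U) rs ∧ 𝓘.ideal ⟨U, hU⟩ = Ideal.ofList rs) :
    MoreMor.IsPerfectMor f := by
  have hQ := localHom_perfect.{u}
  have := hQ.hasRingHomProperty
  rw [perfectMor_eq]
  choose A hA j hj I n a b q hq hl hI hc hx heq using exists_chart_at hf h
  haveI := hq
  let 𝒰 : X'.OpenCover := Scheme.Cover.mkOfCovers X' _ q (fun x' => ⟨x', hx x'⟩) (fun x' => hq x')
  refine IsZariskiLocalAtSource.of_openCover (P := Mor (fun A B _ _ _ => MoreMor.IsPerfectHom A B)) 𝒰 fun x' => ?_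
  change Mor (fun A B _ _ _ => MoreMor.IsPerfectHom A B) (q x' ≫ f)
  rw [heq x']
  haveI := hj x'
  exact hQ.mor_comp _ _ ((perfectMor_eq _).1 (perfect_toBase (I x') (a x')
      (Chart.isPerfectHom (a x') (b x') (hl x') (hI x'))))
    ((perfectMor_eq _).1 (perfect_of_isOpenImmersion (j x')))

end Groth.Agent.BlowPerf.Global
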