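import Groth.Agent.BlowPerf.Global
import Groth.Agent.Adic.IdealSpec

/-!
# Blow-ups in Koszul-regular centres commute with Tor-independent base change
-/

set_option autoImplicit false
set_option linter.style.haveILetI false
set_option backward.isDefEq.respectTransparency.types false
set_option maxHeartbeats 800000

open CategoryTheory Limits AlgebraicGeometry MvPolynomial
open Groth.Agent.BlowUp
open Groth.Agent.IdealSh
open scoped TensorProduct

universe u

namespace Groth.Agent.BlowPerf.BaseChange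

/-- `a` stays a nonzerodivisor on the base change of a chart. -/
theorem smul_regular_tensor {A A' C : Type u} [CommRing A] [CommRing A'] [CommRing C] [Algebra A A'] [Algebra A C]
    {n : ℕ} (a : A) (b : Fin n → A)
    (h' : LCI.IsKoszulRegularSeq A' (algebraMap A A' a :: List.ofFn fun i => algebraMap A A' (b i)))
    (f : MvPolynomial (Fin n) A →ₐ[A] C) (hf : Function.Surjective f)
    (hker : RingHom.ker f.toRingHom = Ideal.ofList (List.ofFn (Chart.eqn a b))) :
    algebraMap A (A' ⊗[A] C) a ∈ nonZeroDivisors (A' ⊗[A] C) := by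
  let F : A' ⊗[A] MvPolynomial (Fin n) A →ₐ[A] A' ⊗[A] C := Algebra.TensorProduct.map (AlgHom.id A A') f
  have hFs : Function.Surjective F := by
    have : Function.Surjective (TensorProduct.map (LinearMap.id : A' →ₗ[A] A') f.toLinearMap) :=
      TensorProduct.map_surjective Function.surjective_id hf
    exact this
  let E := MvPolynomial.algebraTensorAlgEquiv (σ := Fin n) A A'
  have hE : ∀ j, E (Algebra.TensorProduct.includeRight (Chart.eqn a b j)) =
      Chart.eqn (algebraMap A A' a) (fun i => algebraMap A A' (b i)) j := by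
    intro j
    rw [Algebra.TensorProduct.includeRight_apply, MvPolynomial.algebraTensorAlgEquiv_tmul, one_smul,
      Chart.eqn, Chart.eqn, map_sub, map_mul, map_C, map_C, map_X]
  have hk : ∀ z, z ∈ RingHom.ker F ↔ E z ∈ Ideal.ofList (List.ofFn
      (Chart.eqn (algebraMap A A' a) (fun i => algebraMap A A' (b i)))) := by
    have h1 : (RingHom.ker F).map E.toRingEquiv.toRingHom = Ideal.ofList (List.ofFn
        (Chart.eqn (algebraMap A A' a) (fun i => algebraMap A A' (b i)))) := by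
      rw [show RingHom.ker F = (RingHom.ker f.toRingHom).map (Algebra.TensorProduct.includeRight :
          MvPolynomial (Fin n) A →ₐ[A] A' ⊗[A] MvPolynomial (Fin n) A).toRingHom from
          Algebra.TensorProduct.lTensor_ker f hf, hker, Ideal.map_map, Ideal.map_ofList, List.map_ofFn]
      exact congrArg (fun l => Ideal.ofList (List.ofFn l)) (funext hE)
    intro z
    rw [← h1, Ideal.mem_map_iff_of_surjective E.toRingEquiv.toRingHom E.toRingEquiv.surjective]
    exact ⟨fun hz => ⟨z, hz, rfl⟩, fun ⟨w, hw, hwz⟩ => E.toRingEquiv.injective hwz ▸ hw⟩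
  rw [mem_nonZeroDivisors_iff_left]
  intro y hy
  obtain ⟨z, rfl⟩ := hFs y
  rw [← F.commutes, ← map_mul] at hy
  have hy' := (hk _).1 hy
  rw [map_mul] at hy'
  refine (hk z).2 (Chart.smul_regular _ _ h' _ ?_)
  convert hy' using 2
  rw [Algebra.TensorProduct.algebraMap_apply, MvPolynomial.algebraTensorAlgEquiv_tmul, map_one, MvPolynomial.smul_eq_C_mul, mul_one]

/-- A criterion for `Gen` on affine schemes. -/
theorem gen_Spec {A R : Type u} [CommRing A] [CommRing R] {I : Ideal A} {a : A} (ψ : A →+* R)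
    (h1 : ψ a ∈ nonZeroDivisors R) (h2 : I.map ψ ≤ Ideal.span {ψ a}) :
    AffineChart.Gen I a (Spec.map (CommRingCat.ofHom ψ)) := by
  have hg : AffineChart.glob (Spec.map (CommRingCat.ofHom ψ)) =
      (Scheme.ΓSpecIso (CommRingCat.of R)).inv.hom.comp ψ := by
    rw [AffineChart.glob, ← Scheme.ΓSpecIso_inv_naturality]
    rfl
  intro V
  constructor
  · rw [hg, RingHom.comp_apply]
    refine EffCartier.map_res_mem_nonZeroDivisors (U := ⟨⊤, isAffineOpen_top _⟩) (le_top : V.1 ≤ ⊤) ?_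
    exact EffCartier.map_mem_nonZeroDivisors_of_flat _
      (RingHom.Flat.of_bijective (ConcreteCategory.bijective_of_isIso _)) h1
  · rw [← Ideal.map_map, hg, ← Ideal.map_map]
    refine (Ideal.map_mono (Ideal.map_mono h2)).trans ?_
    rw [Ideal.map_span, Ideal.map_span, Set.image_singleton, Set.image_singleton]
    exact le_rfl

/-- Koszul-regular generators stay Koszul regular after pulling back to an affine chart. -/
theorem regular_map {X X' : Scheme.{u}} {𝓘 : X.IdealSheafData} (g : X' ⟶ X)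
    (hg : ∀ (U : X.affineOpens) (rs : List Γ(X, U.1)), LCI.IsKoszulRegularSeq Γ(X, U.1) rs →
      𝓘.ideal U = Ideal.ofList rs → ∀ (V : X'.affineOpens) (e : V.1 ≤ g ⁻¹ᵁ U.1),
        LCI.IsKoszulRegularSeq Γ(X', V.1) (rs.map fun r => (g.appLE U.1 V.1 e).hom r))
    {A A' : Type u} [CommRing A] [CommRing A'] (j : Spec (CommRingCat.of A) ⟶ X) [IsOpenImmersion j]
    (j' : Spec (CommRingCat.of A') ⟶ X') [IsOpenImmersion j'] (φ : A →+* A')
    (hfac : j' ≫ g = Spec.map (CommRingCat.ofHom φ) ≫ j) (l : List A) (hl : LCI.IsKoszulRegularSeq A l)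
    (hc : 𝓘.comap j = Existence.centre (Ideal.ofList l)) :
    LCI.IsKoszulRegularSeq A' (l.map φ) := by
  let T : (Spec (CommRingCat.of A)).affineOpens := ⟨⊤, isAffineOpen_top _⟩
  let T' : (Spec (CommRingCat.of A')).affineOpens := ⟨⊤, isAffineOpen_top _⟩
  let U : X.affineOpens := ⟨j ''ᵁ ⊤, T.2.image_of_isOpenImmersion j⟩
  let V : X'.affineOpens := ⟨j' ''ᵁ ⊤, T'.2.image_of_isOpenImmersion j'⟩
  let σ : A →+* Γ(X, U.1) := (j.appIso ⊤).inv.hom.comp (Scheme.ΓSpecIso (CommRingCat.of A)).inv.hom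
  have hσ : Function.Bijective σ :=
    (ConcreteCategory.bijective_of_isIso (j.appIso ⊤).inv).comp
      (ConcreteCategory.bijective_of_isIso (Scheme.ΓSpecIso (CommRingCat.of A)).inv)
  have hI : 𝓘.ideal U = Ideal.ofList (l.map σ) := by
    have h1 : (𝓘.comap j).ideal T = (𝓘.ideal U).comap (j.appIso ⊤).inv.hom :=
      Scheme.IdealSheafData.ideal_comap_of_isOpenImmersion 𝓘 j T
    rw [hc, Existence.centre, Scheme.IdealSheafData.ofIdealTop_ideal] at h1
    have h2 := congrArg (Ideal.map (j.appIso ⊤).inv.hom) h1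
    rw [Ideal.map_comap_of_surjective _ (ConcreteCategory.bijective_of_isIso (j.appIso ⊤).inv).2] at h2
    rw [← h2, ← Ideal.map_ofList]
    simp only [σ, T, homOfLE_refl, op_id, CategoryTheory.Functor.map_id, CommRingCat.hom_id, Ideal.map_map]
    rfl
  have e : V.1 ≤ g ⁻¹ᵁ U.1 := by
    rintro _ ⟨w, -, rfl⟩
    refine ⟨Spec.map (CommRingCat.ofHom φ) w, trivial, ?_⟩
    exact congr($(hfac.symm) w)
  have h3 := hg U (l.map σ) (KReg44.isKoszulRegularSeq_map σ (RingHom.Flat.of_bijective hσ) hl) hI V e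
  let τ : Γ(X', V.1) →+* A' := (Scheme.ΓSpecIso (CommRingCat.of A')).hom.hom.comp (j'.appIso ⊤).hom.hom
  have hτ : Function.Bijective τ :=
    (ConcreteCategory.bijective_of_isIso (Scheme.ΓSpecIso (CommRingCat.of A')).hom).comp
      (ConcreteCategory.bijective_of_isIso (j'.appIso ⊤).hom)
  have h4 := KReg44.isKoszulRegularSeq_map τ (RingHom.Flat.of_bijective hτ) h3
  rw [List.map_map, List.map_map] at h4
  convert h4 using 2
  ext r
  change φ r = (Scheme.ΓSpecIso (CommRingCat.of A')).hom.hom ((j'.appIso ⊤).hom.hom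
    ((g.appLE U.1 V.1 e).hom ((j.appIso ⊤).inv.hom ((Scheme.ΓSpecIso (CommRingCat.of A)).inv.hom r))))
  have h5 : g.appLE U.1 V.1 e ≫ (j'.appIso ⊤).hom = (j.appIso ⊤).hom ≫ (Spec.map (CommRingCat.ofHom φ)).appTop := by
    have hcongr : ∀ (f f' : Spec (CommRingCat.of A') ⟶ X) (_ : f = f') (e₁ : ⊤ ≤ f ⁻¹ᵁ U.1) (e₂ : ⊤ ≤ f' ⁻¹ᵁ U.1),
        f.appLE U.1 ⊤ e₁ = f'.appLE U.1 ⊤ e₂ := by
      rintro f _ rfl _ _
      rfl
    rw [Scheme.Hom.appIso_hom', Scheme.Hom.appIso_hom', Scheme.Hom.appTop, Scheme.Hom.app_eq_appLE]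
    exact (Scheme.Hom.appLE_comp_appLE j' g U.1 V.1 ⊤ e _).trans
      ((hcongr _ _ hfac _ _).trans
        (Scheme.Hom.appLE_comp_appLE (Spec.map (CommRingCat.ofHom φ)) j U.1 ⊤ ⊤ _ le_rfl).symm)
  have h6 : (j.appIso ⊤).inv ≫ g.appLE U.1 V.1 e ≫ (j'.appIso ⊤).hom ≫ (Scheme.ΓSpecIso (CommRingCat.of A')).hom =
      (Scheme.ΓSpecIso (CommRingCat.of A)).hom ≫ CommRingCat.ofHom φ := by
    rw [reassoc_of% h5, Iso.inv_hom_id_assoc, Scheme.ΓSpecIso_naturality]
  have h7 := congr($h6 ((Scheme.ΓSpecIso (CommRingCat.of A)).inv.hom r))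
  refine Eq.trans ?_ h7.symm
  exact (congrArg φ congr($((Scheme.ΓSpecIso (CommRingCat.of A)).inv_hom_id) r)).symm

/-- The pullback of the centre to the base change of the blow-up is effective Cartier. -/
theorem isEffCartierIdeal {X X' B : Scheme.{u}} (𝓘 : X.IdealSheafData)
    (h𝓘 : ∀ x : X, ∃ (U : X.Opens) (hU : IsAffineOpen U) (rs : List Γ(X, U)), x ∈ U ∧
      LCI.IsKoszulRegularSeq Γ(X, U) rs ∧ 𝓘.ideal ⟨U, hU⟩ = Ideal.ofList rs) (g : X' ⟶ X)
    (hg : ∀ (U : X.affineOpens) (rs : List Γ(X, U.1)), LCI.IsKoszulRegularSeq Γ(X, U.1) rs →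
      𝓘.ideal U = Ideal.ofList rs → ∀ (V : X'.affineOpens) (e : V.1 ≤ g ⁻¹ᵁ U.1),
        LCI.IsKoszulRegularSeq Γ(X', V.1) (rs.map fun r => (g.appLE U.1 V.1 e).hom r))
    (b : B ⟶ X) (hb : _root_.BlowUp.IsBlowUp b 𝓘) :
    _root_.BlowUp.IsEffCartierIdeal ((𝓘.comap g).comap (pullback.snd b g)) := by
  refine EffCartier.of_openCover fun p => ?_
  obtain ⟨A, _, j, _, I, n, a, c, q, _, hl, hI, hc, ⟨w, hw⟩, heq⟩ :=
    Global.exists_chart_at hb h𝓘 (pullback.fst b g p)
  have hgp : g (pullback.snd b g p) ∈ j.opensRange := by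
    rw [← Scheme.Hom.comp_apply, ← pullback.condition, Scheme.Hom.comp_apply, ← hw, ← Scheme.Hom.comp_apply, heq]
    exact ⟨_, rfl⟩
  obtain ⟨V, hV, hpV, hVj⟩ := exists_isAffineOpen_mem_and_subset (x := pullback.snd b g p) (U := g ⁻¹ᵁ j.opensRange) hgp
  haveI := hV.isOpenImmersion_fromSpec
  have hr : Set.range (hV.fromSpec ≫ g).base ⊆ Set.range j.base := by
    rintro _ ⟨v, rfl⟩
    exact hVj (hV.range_fromSpec.le ⟨v, rfl⟩)
  obtain ⟨φ, hφ⟩ := Spec.map_surjective (IsOpenImmersion.lift j (hV.fromSpec ≫ g) hr)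
  letI : Algebra A Γ(X', V) := φ.hom.toAlgebra
  let A' : Type u := Γ(X', V)
  let C := AffineChart.Chart I a
  let j' : Spec (CommRingCat.of A') ⟶ X' := hV.fromSpec
  haveI : IsOpenImmersion j' := hV.isOpenImmersion_fromSpec
  have hfac : j' ≫ g = Spec.map (CommRingCat.ofHom (algebraMap A A')) ≫ j :=
    ((congrArg (· ≫ j) hφ).trans (IsOpenImmersion.lift_fac _ _ _)).symm
  have h' : LCI.IsKoszulRegularSeq A' (algebraMap A A' a :: List.ofFn fun i => algebraMap A A' (c i)) := by
    have := regular_map g hg j j' (algebraMap A A') hfac (a :: List.ofFn c) hl (hI ▸ hc)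
    rw [List.map_cons, List.map_ofFn] at this
    exact this
  obtain ⟨f, hf, hker⟩ := Chart.exists_presentation a c hl hI
  let s := Spec.map (CommRingCat.ofHom (algebraMap A A'))
  let t := Spec.map (CommRingCat.ofHom (algebraMap A C))
  let m : pullback t s ⟶ pullback b g := pullback.map t s b g q j' j heq.symm hfac.symm
  haveI : IsOpenImmersion m := inferInstance
  have hpm : p ∈ m.opensRange := by
    change p ∈ Set.range m
    rw [Scheme.Pullback.range_map]
    exact ⟨⟨w, hw⟩, hV.range_fromSpec.symm ▸ hpV⟩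
  let e := pullbackSpecIso A C A'
  refine ⟨m.opensRange, hpm, (EffCartier.comap_iso_iff m.isoOpensRange.hom _).mp
    ((EffCartier.comap_iso_iff e.inv _).mp ?_)⟩
  rw [← Scheme.IdealSheafData.comap_comp, ← Scheme.IdealSheafData.comap_comp,
    ← Scheme.IdealSheafData.comap_comp, ← Scheme.IdealSheafData.comap_comp]
  have hm : m ≫ pullback.fst b g = pullback.fst t s ≫ q := pullback.lift_fst _ _ _
  have hcomp : (((e.inv ≫ m.isoOpensRange.hom) ≫ m.opensRange.ι) ≫ pullback.snd b g) ≫ g =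
      Spec.map (CommRingCat.ofHom (algebraMap A (C ⊗[A] A'))) ≫ j := by
    rw [Category.assoc, Category.assoc, Category.assoc, Scheme.Hom.isoOpensRange_hom_ι_assoc, ← pullback.condition,
      reassoc_of% hm, heq, pullbackSpecIso_inv_fst'_assoc, AffineChart.toBase, ← Category.assoc, ← Spec.map_comp,
      ← CommRingCat.ofHom_comp, ← IsScalarTower.algebraMap_eq]
  rw [hcomp, Scheme.IdealSheafData.comap_comp, hc]
  have ha : a ∈ I := hI ▸ Ideal.subset_span List.mem_cons_self
  refine Existence.effCartier_of_gen I ha (gen_Spec _ ?_ ?_)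
  · have h1 := smul_regular_tensor (A' := A') a c h' f hf hker
    rw [mem_nonZeroDivisors_iff_left] at h1 ⊢
    intro y hy
    have h2 := congrArg (Algebra.TensorProduct.comm A C A') hy
    rw [map_mul, map_zero, AlgEquiv.commutes] at h2
    exact (Algebra.TensorProduct.comm A C A').injective ((h1 _ h2).trans (map_zero _).symm)
  · rw [IsScalarTower.algebraMap_eq A C (C ⊗[A] A'), ← Ideal.map_map, AffineChart.map_eq_span I a ha,
      Ideal.map_span, Set.image_singleton]
    exact le_rfl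

end Groth.Agent.BlowPerf.BaseChange
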