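import Groth.Agent.BlowPerf.Koszul
import Groth.Agent.BlowUp.AffineChart
import Groth.Agent.FlatMor.PC.Koszul

/-!
# The affine blow-up algebra of a Koszul-regular ideal is perfect
-/

set_option autoImplicit false
set_option linter.style.haveILetI false

open CategoryTheory MvPolynomial

attribute [local instance] HasDerivedCategory.standard
open Groth.Agent.BlowUp.AffineChart (Chart)

universe u

namespace Groth.Agent.BlowPerf.Chart

open Groth.Agent.KReg44 hiding C

variable {A : Type u} [CommRing A]

/-- Koszul regularity is unchanged by moving each entry of the tail by a multiple of the head, up to sign. -/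
theorem transform {R : Type u} [CommRing R] (a : R) : ∀ (L : List (R × R)) (pre : List R),
    (∀ x ∈ L, x.2 + x.1 ∈ Ideal.span {a}) → LCI.IsKoszulRegularSeq R (pre ++ a :: L.map Prod.fst) →
      LCI.IsKoszulRegularSeq R (pre ++ a :: L.map Prod.snd)
  | [], _, _, h => h
  | x :: L, pre, hx, h => by
    have h1 : LCI.IsKoszulRegularSeq R (x.1 :: (pre ++ a :: L.map Prod.fst)) :=
      isKoszulRegularSeq_perm (((List.Perm.swap _ _ _).append_left pre).trans List.perm_middle) h
    have ha : a ∈ Ideal.ofList (pre ++ a :: L.map Prod.fst) :=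
      Ideal.subset_span (show a ∈ pre ++ a :: L.map Prod.fst by simp)
    have hmem : x.2 + x.1 ∈ Ideal.ofList (pre ++ a :: L.map Prod.fst) := by
      obtain ⟨r, hr⟩ := Ideal.mem_span_singleton'.1 (hx x List.mem_cons_self)
      rw [← hr]
      exact Ideal.mul_mem_left _ r ha
    have h2 := isKoszulRegularSeq_head h1 (isUnit_one.neg) hmem
    rw [show (-1 : R) * x.1 + (x.2 + x.1) = x.2 by ring] at h2
    have h3 : LCI.IsKoszulRegularSeq R ((pre ++ [x.2]) ++ a :: L.map Prod.fst) :=
      isKoszulRegularSeq_perm (by rw [List.append_assoc, List.singleton_append]; exact List.perm_middle.symm) h2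
    have h4 := transform a L (pre ++ [x.2]) (fun y hy => hx y (List.mem_cons_of_mem _ hy)) h3
    exact isKoszulRegularSeq_perm (by
      rw [List.map_cons, List.append_assoc, List.singleton_append]
      exact (List.Perm.swap _ _ _).append_left pre) h4

/-- Scaling the entries by a unit. -/
theorem scale {R : Type u} [CommRing R] {u : R} (hu : IsUnit u) : ∀ (L pre : List R),
    LCI.IsKoszulRegularSeq R (pre ++ L) → LCI.IsKoszulRegularSeq R (pre ++ L.map (u * ·))
  | [], _, h => h
  | x :: L, pre, h => by
    have h1 := isKoszulRegularSeq_head (isKoszulRegularSeq_perm List.perm_middle h) hu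
      (zero_mem (Ideal.ofList (pre ++ L)))
    rw [add_zero] at h1
    have h2 := scale hu L (pre ++ [u * x]) (isKoszulRegularSeq_perm (by
      rw [List.append_assoc, List.singleton_append]; exact List.perm_middle.symm) h1)
    rwa [List.append_assoc, List.singleton_append] at h2

variable {n : ℕ} (a : A) (b : Fin n → A)

/-- The equations of the chart. -/
noncomputable def eqn (j : Fin n) : MvPolynomial (Fin n) A := C a * X j - C (b j)

variable (h : LCI.IsKoszulRegularSeq A (a :: List.ofFn b))

include h

theorem regular_cons : LCI.IsKoszulRegularSeq (MvPolynomial (Fin n) A) (C a :: List.ofFn (eqn a b)) := by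
  have h1 : LCI.IsKoszulRegularSeq (MvPolynomial (Fin n) A) ((a :: List.ofFn b).map C) :=
    isKoszulRegularSeq_map _ (RingHom.flat_algebraMap_iff.2 inferInstance :
      (algebraMap A (MvPolynomial (Fin n) A)).Flat) h
  have h2 := transform (C a) (List.ofFn fun j => (C (b j), eqn a b j)) [] (by
    intro x hx
    obtain ⟨j, rfl⟩ := List.mem_ofFn.1 hx
    exact Ideal.mem_span_singleton.2 ⟨X j, by rw [eqn]; ring⟩)
    (by rw [List.nil_append, List.map_ofFn]; rw [List.map_cons, List.map_ofFn] at h1; exact h1)
  rw [List.nil_append, List.map_ofFn] at h2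
  exact h2

theorem regular : LCI.IsKoszulRegularSeq (MvPolynomial (Fin n) A) (List.ofFn (eqn a b)) := by
  let L := Localization.Away a
  let S := MvPolynomial (Fin n) L
  letI : Algebra (MvPolynomial (Fin n) A) S := (MvPolynomial.map (algebraMap A L)).toAlgebra
  haveI : IsLocalization.Away (C a : MvPolynomial (Fin n) A) S := by
    have := MvPolynomial.isLocalization (σ := Fin n) (Submonoid.powers a) L
    rwa [Submonoid.map_powers] at this
  refine Koszul.tail_of_away (C a) S (regular_cons a b h) ?_
  have hu : IsUnit (C (algebraMap A L a) : S) := (IsLocalization.Away.algebraMap_isUnit a).map C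
  let c : Fin n → L := fun j => IsLocalization.mk' L (b j) ⟨a, Submonoid.mem_powers a⟩
  have h0 := scale hu _ [] (by rw [List.nil_append]; exact isKoszulRegularSeq_X_sub_C (A := L) n c)
  rw [List.nil_append, List.map_ofFn] at h0
  convert h0 using 1
  rw [List.map_ofFn]
  congr 1
  funext j
  show MvPolynomial.map (algebraMap A L) (eqn a b j) = C (algebraMap A L a) * (X j - C (c j))
  rw [eqn, map_sub, map_mul, map_C, map_X, map_C, mul_sub, ← map_mul C,
    show algebraMap A L a * c j = algebraMap A L (b j) from IsLocalization.mk'_spec' L (b j) ⟨a, _⟩]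

theorem smul_regular (F : MvPolynomial (Fin n) A)
    (hF : C a * F ∈ Ideal.ofList (List.ofFn (eqn a b))) : F ∈ Ideal.ofList (List.ofFn (eqn a b)) := by
  obtain ⟨π, -, hk⟩ := KosCone.Basic.exists_toH0 (List.ofFn (eqn a b))
  rw [← hk, LinearMap.mem_ker] at hF ⊢
  rw [← smul_eq_mul, map_smul] at hF
  exact ((isZero_cons_iff (C a) _ (-1)).mp (regular_cons a b h (-1) (by norm_num))).2 _ hF

omit h in
theorem exists_const (F : MvPolynomial (Fin n) A) :
    ∃ (N : ℕ) (c : A), C a ^ N * F - C c ∈ Ideal.ofList (List.ofFn (eqn a b)) := by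
  induction F using MvPolynomial.induction_on with
  | C c => exact ⟨0, c, by simp⟩
  | add p q hp hq =>
    obtain ⟨N, c, hc⟩ := hp
    obtain ⟨M, d, hd⟩ := hq
    refine ⟨N + M, a ^ M * c + a ^ N * d, ?_⟩
    have := add_mem (Ideal.mul_mem_left _ (C a ^ M) hc) (Ideal.mul_mem_left _ (C a ^ N) hd)
    convert this using 1
    simp only [map_add, map_mul, map_pow]
    ring
  | mul_X p j hp =>
    obtain ⟨N, c, hc⟩ := hp
    refine ⟨N + 1, c * b j, ?_⟩
    have hj : eqn a b j ∈ Ideal.ofList (List.ofFn (eqn a b)) := Ideal.subset_span (List.mem_ofFn.2 ⟨j, rfl⟩)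
    have := add_mem (Ideal.mul_mem_right (C a * X j) _ hc) (Ideal.mul_mem_left _ (C c) hj)
    convert this using 1
    simp only [eqn, map_mul]
    ring

variable {I : Ideal A} (hI : I = Ideal.ofList (a :: List.ofFn b))

/-- The presentation of the chart. -/
theorem exists_presentation (hI : I = Ideal.ofList (a :: List.ofFn b)) :
    ∃ f : MvPolynomial (Fin n) A →ₐ[A] Chart I a, Function.Surjective f ∧
      RingHom.ker f.toRingHom = Ideal.ofList (List.ofFn (eqn a b)) := by
  have hb : ∀ j, b j ∈ I := fun j => hI ▸ Ideal.subset_span (List.mem_cons_of_mem _ (List.mem_ofFn.2 ⟨j, rfl⟩))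
  let f : MvPolynomial (Fin n) A →ₐ[A] Chart I a := aeval fun j => BlowUp.AffineChart.div I a (hb j)
  refine ⟨f, fun y => ?_, le_antisymm (fun F hF => ?_) ?_⟩
  · suffices hle : BlowUp.affineAlgebra A I a ≤ ((BlowUp.affineAlgebra A I a).val.comp f).range by
      obtain ⟨F, hF⟩ := hle y.2
      exact ⟨F, Subtype.ext hF⟩
    refine Algebra.adjoin_le ?_
    rintro _ ⟨x, hx, rfl⟩
    rw [hI] at hx
    induction hx using Submodule.span_induction with
    | mem z hz =>
      rcases List.mem_cons.1 hz with rfl | hz
      · refine ⟨1, ?_⟩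
        rw [map_one]
        exact (IsLocalization.mk'_self (Localization.Away z) (Submonoid.mem_powers z)).symm
      · obtain ⟨j, rfl⟩ := List.mem_ofFn.1 hz
        exact ⟨X j, congrArg Subtype.val (aeval_X (fun j => BlowUp.AffineChart.div I a (hb j)) j)⟩
    | zero => exact ⟨0, by rw [map_zero, IsLocalization.mk'_zero]⟩
    | add z w _ _ hz hw =>
      obtain ⟨F, hF⟩ := hz
      obtain ⟨G, hG⟩ := hw
      refine ⟨F + G, ?_⟩
      rw [map_add]
      refine (congrArg₂ (· + ·) hF hG).trans ?_
      rw [← IsLocalization.mk'_add]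
      refine IsLocalization.mk'_eq_of_eq ?_
      simp [mul_comm, mul_add]
      ring
    | smul r z _ hz =>
      obtain ⟨F, hF⟩ := hz
      refine ⟨C r * F, ?_⟩
      rw [map_mul]
      refine (congrArg₂ (· * ·) (AlgHom.commutes ((BlowUp.affineAlgebra A I a).val.comp f) r) hF).trans ?_
      rw [IsLocalization.mul_mk'_eq_mk'_of_mul, smul_eq_mul]
  · obtain ⟨N, c, hc⟩ := exists_const a b F
    have hker : ∀ G ∈ Ideal.ofList (List.ofFn (eqn a b)), f G = 0 := by
      intro G hG
      refine Submodule.span_induction ?_ (map_zero f) (fun _ _ _ _ h1 h2 => by rw [map_add, h1, h2, add_zero])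
        (fun r _ _ h1 => by rw [smul_eq_mul, map_mul, h1, mul_zero]) hG
      intro z hz
      obtain ⟨j, rfl⟩ := List.mem_ofFn.1 hz
      rw [eqn, map_sub, map_mul, aeval_C, aeval_C, aeval_X, BlowUp.AffineChart.algebraMap_mul_div, sub_self]
    have h0 := hker _ hc
    rw [map_sub, map_mul, show f F = 0 from hF, mul_zero, zero_sub, neg_eq_zero, aeval_C] at h0
    obtain ⟨⟨_, m, rfl⟩, hm⟩ := (IsLocalization.map_eq_zero_iff (Submonoid.powers a) (Localization.Away a) c).1
      (congrArg Subtype.val h0)
    have hmem : C a ^ (m + N) * F ∈ Ideal.ofList (List.ofFn (eqn a b)) := by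
      have := Ideal.mul_mem_left _ (C a ^ m) hc
      rw [mul_sub, ← mul_assoc, ← pow_add, show (C a ^ m * C c : MvPolynomial (Fin n) A) = 0 by
          rw [← map_pow, ← map_mul, show a ^ m * c = 0 from hm, map_zero], sub_zero] at this
      exact this
    have : ∀ (k : ℕ) (G : MvPolynomial (Fin n) A), C a ^ k * G ∈ Ideal.ofList (List.ofFn (eqn a b)) →
        G ∈ Ideal.ofList (List.ofFn (eqn a b)) := by
      intro k
      induction k with
      | zero => intro G hG; simpa using hG
      | succ k ih => intro G hG; exact smul_regular a b h G (ih _ (by rwa [← mul_assoc, ← pow_succ]))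
    exact this _ F hmem
  · rw [Ideal.span_le]
    intro z hz
    obtain ⟨j, rfl⟩ := List.mem_ofFn.1 hz
    show f (eqn a b j) = 0
    rw [eqn, map_sub, map_mul, aeval_C, aeval_C, aeval_X, BlowUp.AffineChart.algebraMap_mul_div, sub_self]

/-- The chart is perfect over the base. -/
theorem isPerfectHom (hI : I = Ideal.ofList (a :: List.ofFn b)) : MoreMor.IsPerfectHom A (Chart I a) := by
  obtain ⟨f, hf, hker⟩ := exists_presentation a b h hI
  let := f.toRingHom.toAlgebra
  have : IsScalarTower A (MvPolynomial (Fin n) A) (Chart I a) :=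
    IsScalarTower.of_algebraMap_eq fun x => (f.commutes x).symm
  refine FlatMor.PC.perfectHom_comp (A := A) (B := MvPolynomial (Fin n) A) FlatMor.PC.perfectHom_of_flat_fp
    (FlatMor.PC.perfectHom_of_perfectModule hf ?_)
  exact DRing.Perfect.perfect_of_iso ((DerivedCategory.singleFunctor (ModuleCat.{u} (MvPolynomial (Fin n) A)) 0).mapIso
    ((Submodule.quotEquivOfEq _ _ hker.symm).trans
      (LinearMap.quotKerEquivOfSurjective (Algebra.linearMap (MvPolynomial (Fin n) A) (Chart I a)) hf)).toModuleIso)
    (FlatMor.PC.perfectModule_quotient _ (regular a b h))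

end Groth.Agent.BlowPerf.Chart
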