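import Groth.Agent.KReg44.Basic
import Groth.Agent.KReg44.Vars
import Mathlib.RingTheory.Localization.BaseChange

/-!
# Koszul regularity of the equations of a blow-up chart
-/

set_option autoImplicit false
set_option linter.style.haveILetI false

open CategoryTheory Limits
open scoped TensorProduct

universe u

namespace Groth.Agent.BlowPerf.Koszul

open Groth.Agent.KReg44

variable {R : Type u} [CommRing R]

/-- If `a :: l` is Koszul regular and `l` is Koszul regular after inverting `a`, then `l` is Koszul regular. -/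
theorem tail_of_away (a : R) (S : Type u) [CommRing S] [Algebra R S] [IsLocalization.Away a S] {l : List R}
    (h : LCI.IsKoszulRegularSeq R (a :: l)) (hS : LCI.IsKoszulRegularSeq S (l.map (algebraMap R S))) :
    LCI.IsKoszulRegularSeq R l := by
  intro i hi
  rcases lt_or_gt_of_ne hi with hneg | hpos
  swap
  · exact @ModuleCat.isZero_of_subsingleton _ _ _
      ⟨fun x y => (KosCone.Basic.homology_eq_zero l i (Or.inl hpos) x).trans
        (KosCone.Basic.homology_eq_zero l i (Or.inl hpos) y).symm⟩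
  have hinj : ∀ x : (Koszul.koszul R l).homology i, a • x = 0 → x = 0 := by
    obtain ⟨j, rfl⟩ : ∃ j, j + 1 = i := ⟨i - 1, by omega⟩
    exact ((isZero_cons_iff a l j).mp (h j (by omega))).2
  obtain ⟨e⟩ := KoszulWiebe.nonempty_koszulIso (algebraMap R S) l
  have h2 : ((((KoszulWiebe.ext (algebraMap R S)).mapHomologicalComplex (ComplexShape.up ℤ)).obj
      (Koszul.koszul R l)).ExactAt i) :=
    (((Koszul.koszul S (l.map (algebraMap R S))).exactAt_iff_isZero_homology i).2 (hS i hi)).of_iso e.symm
  have h3 := exact_lTensor_of_exactAt h2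
  let C := (Koszul.koszul R l).sc i
  refine @ModuleCat.isZero_of_subsingleton _ _ _ ⟨fun y z => ?_⟩
  suffices H : ∀ w : C.homology, w = 0 by exact (H y).trans (H z).symm
  intro (w : (Koszul.koszul R l).homology i)
  let e' : (Koszul.koszul R l).homology i ≅ C.moduleCatLeftHomologyData.H := C.moduleCatHomologyIso
  obtain ⟨c, hc⟩ := Submodule.mkQ_surjective _ (e'.hom w)
  have hpow : ∀ (n : ℕ) (x : (Koszul.koszul R l).homology i), a ^ n • x = 0 → x = 0 := by
    intro n
    induction n with
    | zero => intro x hx; simpa using hx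
    | succ n ih => intro x hx; exact hinj x (ih _ (by rw [smul_smul, ← pow_succ]; exact hx))
  have hc0 : C.g.hom.lTensor S ((1 : S) ⊗ₜ[R] (c : C.X₂)) = 0 := by
    rw [LinearMap.lTensor_tmul, show C.g.hom (c : C.X₂) = 0 from c.2, TensorProduct.tmul_zero]
  obtain ⟨t, ht⟩ := (h3 _).mp hc0
  obtain ⟨⟨y, s⟩, hys⟩ := IsLocalizedModule.surj (Submonoid.powers a) (TensorProduct.mk R S C.X₁ 1) t
  obtain ⟨_, m, rfl⟩ := s
  have key : (1 : S) ⊗ₜ[R] C.f.hom y = (1 : S) ⊗ₜ[R] (a ^ m • (c : C.X₂)) := by
    have := congrArg (C.f.hom.lTensor S) hys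
    rw [TensorProduct.mk_apply, LinearMap.lTensor_tmul, Submonoid.smul_def] at this
    rw [← this, LinearMap.map_smul_of_tower, TensorProduct.tmul_smul]
    exact congrArg (a ^ m • ·) ht
  obtain ⟨⟨_, k, rfl⟩, hk⟩ := (IsLocalizedModule.eq_iff_exists (Submonoid.powers a)
    (TensorProduct.mk R S C.X₂ 1)).1 key
  refine hpow (k + m) w (e'.toLinearEquiv.injective ?_)
  rw [map_smul, map_zero]
  change a ^ (k + m) • e'.hom w = 0
  refine (congrArg (a ^ (k + m) • ·) hc.symm).trans ?_
  refine (Submodule.Quotient.mk_eq_zero _ (x := a ^ (k + m) • c)).2 ?_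
  refine ⟨a ^ k • y, Subtype.ext ?_⟩
  change C.f.hom (a ^ k • y) = a ^ (k + m) • (c : C.X₂)
  rw [map_smul, pow_add, mul_smul]
  exact hk

end Groth.Agent.BlowPerf.Koszul
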